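import Cfsg.Agent.Lib.Helper44.Simil

set_option autoImplicit false

namespace Cfsg.Agent.Lib.Helper13.OOut

open Matrix Cfsg.Agent.Lib.Helper44

universe u

section general

/-- a group acting on `G` by automorphisms stabilising `H` acts on `H` -/
def restrictHom {K G : Type*} [Group K] [Group G] (c : K →* MulAut G) (H : Subgroup G)
    (h : ∀ k, ∀ x ∈ H, c k x ∈ H) : K →* MulAut H where
  toFun k :=
    { toFun := fun x => ⟨c k x, h k x x.2⟩
      invFun := fun x => ⟨c k⁻¹ x, h k⁻¹ x x.2⟩
      left_inv := fun x => by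
        apply Subtype.ext
        change c k⁻¹ (c k x) = x
        rw [← MulAut.mul_apply, ← map_mul, inv_mul_cancel, map_one]; rfl
      right_inv := fun x => by
        apply Subtype.ext
        change c k (c k⁻¹ x) = x
        rw [← MulAut.mul_apply, ← map_mul, mul_inv_cancel, map_one]; rfl
      map_mul' := fun x y => by apply Subtype.ext; simp }
  map_one' := by ext x; simp
  map_mul' a b := by ext x; simp

theorem restrictHom_apply {K G : Type*} [Group K] [Group G] (c : K →* MulAut G) (H : Subgroup G)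
    (h : ∀ k, ∀ x ∈ H, c k x ∈ H) (k : K) (x : H) : ((restrictHom c H h k x : H) : G) = c k x := rfl

/-- two surjections with the same kernel have isomorphic targets -/
theorem nonempty_equiv_of_ker_eq {Γ O X : Type*} [Group Γ] [Group O] [Group X] (a : Γ →* O)
    (ha : Function.Surjective a) (b : Γ →* X) (hb : Function.Surjective b) (h : a.ker = b.ker) :
    Nonempty (O ≃* X) :=
  ⟨(QuotientGroup.quotientKerEquivOfSurjective a ha).symm.trans
    ((QuotientGroup.quotientMulEquivOfEq h).trans (QuotientGroup.quotientKerEquivOfSurjective b hb))⟩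

end general

variable {F : Type u} [Field F] {ι : Type} [Fintype ι] [DecidableEq ι]

/-- field automorphisms acting entrywise on `GL` -/
def fieldGL : (F ≃+* F) →* MulAut (GL ι F) where
  toFun σ := Units.mapEquiv (σ.mapMatrix (m := ι)).toMulEquiv
  map_one' := by ext g i j; rfl
  map_mul' a b := by ext g i j; rfl

theorem fieldGL_coe (σ : F ≃+* F) (g : GL ι F) :
    ((fieldGL σ g : GL ι F) : Matrix ι ι F) = (g : Matrix ι ι F).map σ := rfl

variable (F ι) in
/-- the group of pairs `(g, σ)`, i.e. of invertible semilinear maps `v ↦ g σ(v)` -/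
abbrev SG := GL ι F ⋊[fieldGL (F := F) (ι := ι)] (F ≃+* F)

/-- the semilinear map attached to a pair -/
def act (x : SG F ι) (v : ι → F) : ι → F := (x.left : Matrix ι ι F) *ᵥ (fun i => x.right (v i))

theorem act_def (x : SG F ι) (v : ι → F) :
    act x v = (x.left : Matrix ι ι F) *ᵥ (fun i => x.right (v i)) := rfl

theorem map_mulVec' (σ : F ≃+* F) (M : Matrix ι ι F) (v : ι → F) :
    (fun i => σ ((M *ᵥ v) i)) = (M.map σ) *ᵥ (fun i => σ (v i)) := by
  funext i
  exact (RingHom.map_mulVec (σ : F →+* F) M v i)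

@[simp] theorem act_one (v : ι → F) : act (1 : SG F ι) v = v := by
  simp [act_def]

theorem act_mul (x y : SG F ι) (v : ι → F) : act (x * y) v = act x (act y v) := by
  simp only [act_def, SemidirectProduct.mul_left, SemidirectProduct.mul_right, Units.val_mul,
    fieldGL_coe]
  rw [map_mulVec', Matrix.mulVec_mulVec]
  rfl

theorem act_inv_act (x : SG F ι) (v : ι → F) : act x⁻¹ (act x v) = v := by
  rw [← act_mul, inv_mul_cancel, act_one]

theorem act_act_inv (x : SG F ι) (v : ι → F) : act x (act x⁻¹ v) = v := by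
  rw [← act_mul, mul_inv_cancel, act_one]

theorem act_add (x : SG F ι) (v w : ι → F) : act x (v + w) = act x v + act x w := by
  simp only [act_def, ← Matrix.mulVec_add]
  congr 1
  funext i
  simp

theorem act_smul (x : SG F ι) (c : F) (v : ι → F) : act x (c • v) = x.right c • act x v := by
  simp only [act_def, ← Matrix.mulVec_smul]
  congr 1
  funext i
  simp

/-- conjugation action of the semilinear group on `GL` -/
def cAut : SG F ι →* MulAut (GL ι F) :=
  SemidirectProduct.lift MulAut.conj fieldGL (by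
    intro σ
    ext g x
    simp [MulAut.conj_apply, map_mul, map_inv])

theorem cAut_apply (x : SG F ι) (s : GL ι F) :
    cAut x s = x.left * fieldGL x.right s * x.left⁻¹ := by
  rfl

theorem cAut_coe (x : SG F ι) (s : GL ι F) :
    ((cAut x s : GL ι F) : Matrix ι ι F) =
      (x.left : Matrix ι ι F) * (s : Matrix ι ι F).map x.right * ((x.left⁻¹ : GL ι F) : Matrix ι ι F) := by
  rw [cAut_apply]; rfl

theorem cAut_mulVec_act (x : SG F ι) (s : GL ι F) (v : ι → F) :
    ((cAut x s : GL ι F) : Matrix ι ι F) *ᵥ (act x v) = act x ((s : Matrix ι ι F) *ᵥ v) := by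
  rw [cAut_coe, act_def, act_def, map_mulVec', Matrix.mulVec_mulVec, Matrix.mulVec_mulVec]
  congr 1
  rw [mul_assoc, ← Units.val_mul, inv_mul_cancel, Units.val_one, mul_one]

/-- the group of semisimilarities of `Q` -/
def Gam (Q : (ι → F) → F) : Subgroup (SG F ι) where
  carrier := {x | Cfsg.IsSemisimilarityPair Q x.left x.right}
  one_mem' := ⟨1, fun v => by simp⟩
  mul_mem' {x y} hx hy := by
    obtain ⟨c, hc⟩ := hx
    obtain ⟨d, hd⟩ := hy
    refine ⟨c * Units.map (x.right : F →* F) d, fun v => ?_⟩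
    have h1 := act_mul x y v
    rw [act_def (x * y)] at h1
    rw [h1, act_def x, hc, act_def y, hd]
    simp [mul_assoc]
  inv_mem' {x} hx := by
    obtain ⟨c, hc⟩ := hx
    refine ⟨Units.map (x⁻¹.right : F →* F) c⁻¹, fun v => ?_⟩
    have h1 := hc (act x⁻¹ v)
    rw [← act_def, act_act_inv] at h1
    rw [← act_def, h1]
    simp only [SemidirectProduct.inv_right, Units.coe_map, MonoidHom.coe_coe, map_mul]
    have h2 : ∀ t : F, (x.right⁻¹ : F ≃+* F) (x.right t) = t := fun t => x.right.symm_apply_apply t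
    rw [h2, ← mul_assoc, ← map_mul]
    simp

theorem mem_Gam {Q : (ι → F) → F} {x : SG F ι} :
    x ∈ Gam Q ↔ ∃ c : Fˣ, ∀ v, Q (act x v) = (c : F) * x.right (Q v) := Iff.rfl

theorem cAut_mem_isometryGroup {Q : (ι → F) → F} {x : SG F ι} (hx : x ∈ Gam Q) {s : GL ι F}
    (hs : s ∈ Cfsg.isometryGroup F Q) : cAut x s ∈ Cfsg.isometryGroup F Q := by
  obtain ⟨c, hc⟩ := mem_Gam.1 hx
  rw [mem_isometryGroup] at hs ⊢
  intro v
  have h1 := cAut_mulVec_act x s (act x⁻¹ v)
  rw [act_act_inv] at h1
  rw [h1, hc, hs, ← hc, act_act_inv]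

/-- the action of the semisimilarity group on the isometry group -/
def isoAct (Q : (ι → F) → F) : ↥(Gam Q) →* MulAut ↥(Cfsg.isometryGroup F Q) :=
  restrictHom (cAut.comp (Gam Q).subtype) (Cfsg.isometryGroup F Q)
    (fun k _ hs => cAut_mem_isometryGroup k.2 hs)

/-- the action of the semisimilarity group on `PΩ` -/
def Th (Q : (ι → F) → F) : ↥(Gam Q) →* MulAut (Cfsg.POmega F Q) :=
  (pcAut ↥(Cfsg.isometryGroup F Q)).comp (isoAct Q)

theorem Th_apply_mk (Q : (ι → F) → F) (x : ↥(Gam Q)) (s s' : ↥(Cfsg.Omega F Q))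
    (h : ((s' : ↥(Cfsg.isometryGroup F Q)) : GL ι F)
      = cAut (x : SG F ι) ((s : ↥(Cfsg.isometryGroup F Q)) : GL ι F)) :
    Th Q x (QuotientGroup.mk s) = QuotientGroup.mk s' := by
  have : Th Q x (QuotientGroup.mk s) = QuotientGroup.mk
      (autRestrict (commutator ↥(Cfsg.isometryGroup F Q)) (isoAct Q x) s) := rfl
  rw [this]
  congr 1
  apply Subtype.ext
  apply Subtype.ext
  rw [h]
  rfl

theorem exists_cAut_Omega (Q : (ι → F) → F) (x : ↥(Gam Q)) (s : ↥(Cfsg.Omega F Q)) :
    ∃ s' : ↥(Cfsg.Omega F Q), ((s' : ↥(Cfsg.isometryGroup F Q)) : GL ι F)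
      = cAut (x : SG F ι) ((s : ↥(Cfsg.isometryGroup F Q)) : GL ι F) :=
  ⟨autRestrict (commutator ↥(Cfsg.isometryGroup F Q)) (isoAct Q x) s, rfl⟩

theorem isInduced_iff' (Q : (ι → F) → F) (x : ↥(Gam Q))
    (β : Cfsg.POmega F Q ≃* Cfsg.POmega F Q) :
    Cfsg.IsInducedBySemilinearPOmega Q (x : SG F ι).left (x : SG F ι).right β ↔ β = Th Q x := by
  constructor
  · intro h
    ext y
    induction y using QuotientGroup.induction_on with
    | H s =>
      obtain ⟨s', hs'⟩ := exists_cAut_Omega Q x s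
      rw [Th_apply_mk Q x s s' hs']
      apply h s s'
      rw [hs', cAut_coe]
  · rintro rfl s s' h
    apply Th_apply_mk
    apply Units.ext
    rw [h, cAut_coe]

theorem gammaPOmega_eq (Q : (ι → F) → F) : Cfsg.gammaPOmega F Q = (Th Q).range := by
  rw [Cfsg.gammaPOmega, Cfsg.autSubgroupOf]
  have : {β : MulAut (Cfsg.POmega F Q) | ∃ (g : GL ι F) (σ : F ≃+* F),
      Cfsg.IsSemisimilarityPair Q g σ ∧ Cfsg.IsInducedBySemilinearPOmega Q g σ β}
      = ((Th Q).range : Set (MulAut (Cfsg.POmega F Q))) := by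
    ext β
    constructor
    · rintro ⟨g, σ, h1, h2⟩
      exact ⟨⟨⟨g, σ⟩, h1⟩, ((isInduced_iff' Q ⟨⟨g, σ⟩, h1⟩ β).1 h2).symm⟩
    · rintro ⟨x, rfl⟩
      exact ⟨_, _, x.2, (isInduced_iff' Q x _).2 rfl⟩
  rw [this, Subgroup.closure_eq]

/-- similarities as semisimilarities -/
def inlG (Q : (ι → F) → F) : ↥(Cfsg.Geo.quadSimilarityGroup Q) →* ↥(Gam Q) :=
  (SemidirectProduct.inl.comp (Cfsg.Geo.quadSimilarityGroup Q).subtype).codRestrict (Gam Q) (by
    intro g
    obtain ⟨c, hc⟩ := g.2
    exact ⟨c, fun v => by simpa using hc v⟩)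

theorem inlG_coe (Q : (ι → F) → F) (g : ↥(Cfsg.Geo.quadSimilarityGroup Q)) :
    (inlG Q g : SG F ι) = SemidirectProduct.inl (g : GL ι F) := rfl

theorem inlG_injective (Q : (ι → F) → F) : Function.Injective (inlG Q) := by
  intro a b h
  have := congrArg (fun x : ↥(Gam Q) => (x : SG F ι).left) h
  exact Subtype.ext this

theorem Th_inlG (Q : (ι → F) → F) : (Th Q).comp (inlG Q) = conjPOmega Q := by
  ext g y
  induction y using QuotientGroup.induction_on with
  | H s =>
    obtain ⟨s', hs'⟩ := exists_conj_Omega Q g s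
    rw [conjPOmega_apply_mk Q g s s' hs']
    apply Th_apply_mk
    rw [hs', cAut_apply]
    apply Units.ext
    simp only [inlG_coe, SemidirectProduct.left_inl, SemidirectProduct.right_inl, Units.val_mul,
      fieldGL_coe]
    congr 2

/-- the field automorphism of a semisimilarity -/
def lam (Q : (ι → F) → F) : ↥(Gam Q) →* (F ≃+* F) :=
  SemidirectProduct.rightHom.comp (Gam Q).subtype

theorem lam_apply (Q : (ι → F) → F) (x : ↥(Gam Q)) : lam Q x = (x : SG F ι).right := rfl

theorem ker_lam (Q : (ι → F) → F) : (lam Q).ker = (inlG Q).range := by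
  ext x
  rw [MonoidHom.mem_ker, lam_apply]
  constructor
  · intro h
    obtain ⟨c, hc⟩ := x.2
    refine ⟨⟨(x : SG F ι).left, ⟨c, fun v => ?_⟩⟩, ?_⟩
    · have := hc v
      rw [h] at this
      simpa using this
    · apply Subtype.ext
      apply SemidirectProduct.ext
      · rfl
      · exact h.symm
  · rintro ⟨g, rfl⟩
    rfl

theorem pgoAut_eq_map (Q : (ι → F) → F) : Cfsg.pgoAut F Q = (lam Q).ker.map (Th Q) := by
  rw [pgoAut_eq, ker_lam, ← Th_inlG, MonoidHom.range_eq_map, MonoidHom.range_eq_map,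
    ← Subgroup.map_map]

end Cfsg.Agent.Lib.Helper13.OOut
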