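import Cfsg.Agent.Lib.Helper13.OOutA

set_option autoImplicit false

namespace Cfsg.Agent.Lib.Helper13.OOut

open Matrix QuadraticMap Module Cfsg.Agent.Lib.Helper44

universe u

variable {F : Type u} [Field F] {ι : Type} [Fintype ι] [DecidableEq ι]

/-- an element of the kernel of the action on `PΩ` centralises the Eichler elements up to sign -/
theorem cAut_eichler_sign [Fintype F] (Q : QuadraticForm F (ι → F))
    (hQ : (polarBilin Q).Nondegenerate) (hn : 5 ≤ Fintype.card ι) (x : ↥(Gam ⇑Q))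
    (hx : Th ⇑Q x = 1) (u v : ι → F) (hu : Q u = 0) (huv : polar Q u v = 0) :
    ((cAut (x : SG F ι) (eichlerElt Q u v hu huv : GL ι F) : GL ι F) : Matrix ι ι F)
        = ((eichlerElt Q u v hu huv : GL ι F) : Matrix ι ι F) ∨
    ((cAut (x : SG F ι) (eichlerElt Q u v hu huv : GL ι F) : GL ι F) : Matrix ι ι F)
        = -((eichlerElt Q u v hu huv : GL ι F) : Matrix ι ι F) := by
  set t : ↥(Cfsg.Omega F ⇑Q) := ⟨eichlerElt Q u v hu huv,
      eichlerElt_mem_Omega Q hQ hn u _ hu huv⟩ with ht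
  obtain ⟨t', ht'⟩ := exists_cAut_Omega ⇑Q x t
  have h3 : (QuotientGroup.mk t' : Cfsg.POmega F ⇑Q) = QuotientGroup.mk t := by
    rw [← Th_apply_mk _ x t t' ht', hx]; rfl
  rw [QuotientGroup.eq, mem_center_Omega_iff Q hQ hn] at h3
  have hinv : (((t' : ↥(Cfsg.isometryGroup F ⇑Q)) : GL ι F) : Matrix ι ι F)
      * ((((t'⁻¹ * t : ↥(Cfsg.Omega F ⇑Q)) : ↥(Cfsg.isometryGroup F ⇑Q)) : GL ι F) : Matrix ι ι F)
      = ((eichlerElt Q u v hu huv : GL ι F) : Matrix ι ι F) := by
    simp only [Subgroup.coe_mul, Units.val_mul, InvMemClass.coe_inv]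
    rw [← mul_assoc, ← Units.val_mul, mul_inv_cancel]
    simp [ht]
  have ht2 : ((cAut (x : SG F ι) (eichlerElt Q u v hu huv : GL ι F) : GL ι F) : Matrix ι ι F)
      = (((t' : ↥(Cfsg.isometryGroup F ⇑Q)) : GL ι F) : Matrix ι ι F) := by
    rw [ht']
  rw [ht2]
  rcases h3 with h3 | h3
  · left
    rw [h3, mul_one] at hinv
    exact hinv
  · right
    rw [h3, mul_neg, mul_one] at hinv
    rw [← hinv, neg_neg]

theorem cAut_eichler [Fintype F] (Q : QuadraticForm F (ι → F))
    (hQ : (polarBilin Q).Nondegenerate) (hn : 5 ≤ Fintype.card ι) (x : ↥(Gam ⇑Q))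
    (hx : Th ⇑Q x = 1) (u v : ι → F) (hu : Q u = 0) (huv : polar Q u v = 0) :
    ((cAut (x : SG F ι) (eichlerElt Q u v hu huv : GL ι F) : GL ι F) : Matrix ι ι F)
        = ((eichlerElt Q u v hu huv : GL ι F) : Matrix ι ι F) := by
  by_cases h2 : (2 : F) = 0
  · rcases cAut_eichler_sign Q hQ hn x hx u v hu huv with h | h
    · exact h
    · rw [h]
      have h3 : ∀ M : Matrix ι ι F, -M = M := by
        intro M
        ext i j
        rw [Matrix.neg_apply, neg_eq_iff_add_eq_zero, ← two_mul, h2, zero_mul]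
      exact h3 _
  · have huw : polar Q u ((2⁻¹ : F) • v) = 0 := by rw [polar_smul_right, huv, smul_zero]
    have h4 := eichlerElt_half_mul_self h2 Q u v hu huv huw
    have h5 : (eichlerElt Q u v hu huv : GL ι F) = (eichlerElt Q u ((2⁻¹ : F) • v) hu huw : GL ι F)
        * (eichlerElt Q u ((2⁻¹ : F) • v) hu huw : GL ι F) := by
      apply Units.ext
      rw [Units.val_mul, h4]
    rw [h5, map_mul, Units.val_mul, Units.val_mul]
    rcases cAut_eichler_sign Q hQ hn x hx u _ hu huw with h | h <;> rw [h]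
    simp

theorem act_eichler [Fintype F] (Q : QuadraticForm F (ι → F))
    (hQ : (polarBilin Q).Nondegenerate) (hn : 5 ≤ Fintype.card ι) (x : ↥(Gam ⇑Q))
    (hx : Th ⇑Q x = 1) (u v : ι → F) (hu : Q u = 0) (huv : polar Q u v = 0) (y : ι → F) :
    act (x : SG F ι) (eichler Q u v hu huv y) = eichler Q u v hu huv (act (x : SG F ι) y) := by
  rw [← eichlerElt_mulVec, ← eichlerElt_mulVec, ← cAut_mulVec_act, cAut_eichler Q hQ hn x hx]

theorem act_singular [Fintype F] (Q : QuadraticForm F (ι → F))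
    (hQ : (polarBilin Q).Nondegenerate) (hn : 5 ≤ Fintype.card ι) (x : ↥(Gam ⇑Q))
    (hx : Th ⇑Q x = 1) (u : ι → F) (hu0 : u ≠ 0) (hu : Q u = 0) :
    ∃ c : F, act (x : SG F ι) u = c • u := by
  have : act (x : SG F ι) u ∈ Submodule.span F {u} := by
    apply mem_span_of_fixed_eichler hQ (by simp; omega) hu0 hu
    intro v huv
    rw [← act_eichler Q hQ hn x hx]
    congr 1
    rw [eichler_apply, polar_self, hu, polar_comm Q v u, huv]
    simp
  obtain ⟨c, hc⟩ := Submodule.mem_span_singleton.1 this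
  exact ⟨c, hc.symm⟩

theorem right_eq_one_of_ker [Fintype F] (Q : QuadraticForm F (ι → F))
    (hQ : (polarBilin Q).Nondegenerate) (hn : 5 ≤ Fintype.card ι) (x : ↥(Gam ⇑Q))
    (hx : Th ⇑Q x = 1) : (x : SG F ι).right = 1 := by
  have hfr : finrank F (ι → F) = Fintype.card ι := by simp
  obtain ⟨e, -, he0, he⟩ := exists_singular_of_finrank Q ⊤ (by rw [finrank_top]; omega)
  obtain ⟨f, hf, hef⟩ := exists_hyp_partner hQ he0 he
  have h3 := le_finrank_perp2 Q e f
  obtain ⟨w, hw, hw0, hwQ⟩ := exists_singular_of_finrank Q (perp2 Q e f) (by omega)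
  rw [mem_perp2] at hw
  -- independence of e and w
  have hind : ∀ a b : F, a • e + b • w = 0 → a = 0 ∧ b = 0 := by
    intro a b hab
    have h4 : polar Q f (a • e + b • w) = a := by
      rw [polar_add_right, polar_smul_right, polar_smul_right, hw.2, polar_comm Q f e, hef]
      simp
    rw [hab] at h4
    have ha : a = 0 := by rw [← h4]; simp
    subst ha
    rw [zero_smul, zero_add] at hab
    exact ⟨rfl, (smul_eq_zero.1 hab).resolve_right hw0⟩
  obtain ⟨c, hc⟩ := act_singular Q hQ hn x hx e he0 he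
  obtain ⟨d, hd⟩ := act_singular Q hQ hn x hx w hw0 hwQ
  have key : ∀ t : F, (x : SG F ι).right t * d = c * t := by
    intro t
    have hs : Q (e + t • w) = 0 := by
      rw [Q_add_smul, he, hwQ, hw.1]; ring
    have hs0 : e + t • w ≠ 0 := by
      intro h
      have := (hind 1 t (by rw [one_smul]; exact h)).1
      exact one_ne_zero this
    obtain ⟨μ, hμ⟩ := act_singular Q hQ hn x hx _ hs0 hs
    rw [act_add, act_smul, hc, hd, smul_add, smul_smul, smul_smul] at hμ
    have h5 : (c - μ) • e + ((x : SG F ι).right t * d - μ * t) • w = 0 := by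
      rw [sub_smul, sub_smul]
      have : c • e - μ • e + (((x : SG F ι).right t * d) • w - (μ * t) • w)
          = (c • e + ((x : SG F ι).right t * d) • w) - (μ • e + (μ * t) • w) := by abel
      rw [this, hμ, sub_self]
    obtain ⟨h6, h7⟩ := hind _ _ h5
    rw [sub_eq_zero] at h6 h7
    rw [h7, h6]
  have hcd : d = c := by
    have := key 1
    simpa using this
  have hc0 : c ≠ 0 := by
    rintro rfl
    rw [zero_smul] at hc
    apply he0
    have := act_inv_act (x : SG F ι) e
    rw [hc] at this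
    rw [← this]
    have h0 : act (x : SG F ι)⁻¹ (0 : ι → F) = 0 := by
      have := act_smul (x : SG F ι)⁻¹ 0 (0 : ι → F)
      simpa using this
    exact h0
  ext t
  have := key t
  rw [hcd, mul_comm] at this
  exact mul_left_cancel₀ hc0 this

theorem mem_ker_Th_iff [Fintype F] (Q : QuadraticForm F (ι → F))
    (hQ : (polarBilin Q).Nondegenerate) (hn : 5 ≤ Fintype.card ι) (x : ↥(Gam ⇑Q)) :
    x ∈ (Th ⇑Q).ker ↔ (x : SG F ι).right = 1 ∧
      ∃ μ : F, ((x : SG F ι).left : Matrix ι ι F) = μ • (1 : Matrix ι ι F) := by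
  have hmap : ∀ M : Matrix ι ι F, M.map ⇑(1 : F ≃+* F) = M := by
    intro M; ext i j; simp
  constructor
  · intro hx
    rw [MonoidHom.mem_ker] at hx
    have h1 := right_eq_one_of_ker Q hQ hn x hx
    refine ⟨h1, ?_⟩
    apply matrix_eq_smul_of_commute Q hQ hn
    intro u v hu huv
    have h2 := cAut_eichler Q hQ hn x hx u v hu huv
    rw [cAut_coe, h1, hmap] at h2
    have h3 : (((x : SG F ι).left⁻¹ : GL ι F) : Matrix ι ι F) * ((x : SG F ι).left : Matrix ι ι F) = 1 := by
      rw [← Units.val_mul, inv_mul_cancel, Units.val_one]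
    conv_rhs => rw [← h2]
    rw [mul_assoc _ _ ((x : SG F ι).left : Matrix ι ι F), h3, mul_one]
  · rintro ⟨h1, μ, hμ⟩
    rw [MonoidHom.mem_ker]
    ext y
    induction y using QuotientGroup.induction_on with
    | H s =>
      rw [Th_apply_mk _ x s s ?_]
      · rfl
      · apply Units.ext
        rw [cAut_coe, h1, hmap]
        have hc : ((x : SG F ι).left : Matrix ι ι F)
              * (((s : ↥(Cfsg.isometryGroup F ⇑Q)) : GL ι F) : Matrix ι ι F)
            = (((s : ↥(Cfsg.isometryGroup F ⇑Q)) : GL ι F) : Matrix ι ι F)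
              * ((x : SG F ι).left : Matrix ι ι F) := by
          rw [hμ]; simp
        rw [hc, mul_assoc, ← Units.val_mul, mul_inv_cancel, Units.val_one, mul_one]

theorem ker_Th_le_ker_lam [Fintype F] (Q : QuadraticForm F (ι → F))
    (hQ : (polarBilin Q).Nondegenerate) (hn : 5 ≤ Fintype.card ι) :
    (Th ⇑Q).ker ≤ (lam ⇑Q).ker := by
  intro x hx
  exact ((mem_ker_Th_iff Q hQ hn x).1 hx).1

end Cfsg.Agent.Lib.Helper13.OOut
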