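import Cfsg.Agent.Lib.Helper13.OOutB
import Cfsg.Agent.Lib.Helper44.SimilChar

set_option autoImplicit false

namespace Cfsg.Agent.Lib.Helper13.OOut

open Matrix QuadraticMap Module Cfsg.Agent.Lib.Helper44

universe u

variable {F : Type u} [Field F] {ι : Type} [Fintype ι] [DecidableEq ι]

/-- `Ω` inside the semisimilarity group -/
noncomputable def omG (Q : (ι → F) → F) : ↥(Cfsg.Omega F Q) →* ↥(Gam Q) :=
  (inlG Q).comp ((Subgroup.inclusion (isometryGroup_le_quadSimilarityGroup Q)).comp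
    (Cfsg.Omega F Q).subtype)

theorem omG_left (Q : (ι → F) → F) (s : ↥(Cfsg.Omega F Q)) :
    (omG Q s : SG F ι).left = ((s : ↥(Cfsg.isometryGroup F Q)) : GL ι F) := rfl

theorem omG_right (Q : (ι → F) → F) (s : ↥(Cfsg.Omega F Q)) :
    (omG Q s : SG F ι).right = 1 := rfl

theorem Th_omG (Q : (ι → F) → F) (s : ↥(Cfsg.Omega F Q)) :
    Th Q (omG Q s) = MulAut.conj (QuotientGroup.mk s : Cfsg.POmega F Q) := by
  ext y
  induction y using QuotientGroup.induction_on with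
  | H t =>
    rw [Th_apply_mk Q _ t (s * t * s⁻¹) ?_]
    · rfl
    · rw [cAut_apply, omG_left, omG_right, map_one]
      simp

theorem inn_eq_map (Q : (ι → F) → F) :
    Cfsg.Inn (Cfsg.POmega F Q) = (omG Q).range.map (Th Q) := by
  ext β
  constructor
  · rintro ⟨x, rfl⟩
    induction x using QuotientGroup.induction_on with
    | H s => exact ⟨omG Q s, ⟨s, rfl⟩, Th_omG Q s⟩
  · rintro ⟨_, ⟨s, rfl⟩, rfl⟩
    exact ⟨QuotientGroup.mk s, (Th_omG Q s).symm⟩

section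

variable [Fintype F] (Q : QuadraticForm F (ι → F)) (hQ : (polarBilin Q).Nondegenerate)
  (hn : 5 ≤ Fintype.card ι)

include hQ hn

theorem conj_injective :
    Function.Injective (MulAut.conj : Cfsg.POmega F ⇑Q →* MulAut (Cfsg.POmega F ⇑Q)) := by
  rw [injective_iff_map_eq_one]
  intro x hx
  induction x using QuotientGroup.induction_on with
  | H s =>
    rw [← Th_omG] at hx
    obtain ⟨-, μ, hμ⟩ := (mem_ker_Th_iff Q hQ hn _).1 hx
    rw [omG_left] at hμ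
    rw [QuotientGroup.eq_one_iff, Subgroup.mem_center_iff]
    intro g
    apply Subtype.ext
    apply isometryGroup_ext
    simp only [Subgroup.coe_mul, Units.val_mul]
    rw [hμ]; simp

theorem card_Inn : Nat.card ↥(Cfsg.Inn (Cfsg.POmega F ⇑Q)) = Nat.card (Cfsg.POmega F ⇑Q) :=
  (Nat.card_congr (MonoidHom.ofInjective (conj_injective Q hQ hn)).toEquiv).symm

theorem mem_ker_conjPOmega_iff' (g : ↥(Cfsg.Geo.quadSimilarityGroup ⇑Q)) :
    g ∈ (conjPOmega ⇑Q).ker ↔ ∃ μ : F, ((g : GL ι F) : Matrix ι ι F) = μ • (1 : Matrix ι ι F) := by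
  rw [← Th_inlG, MonoidHom.mem_ker, MonoidHom.comp_apply, ← MonoidHom.mem_ker,
    mem_ker_Th_iff Q hQ hn]
  constructor
  · rintro ⟨-, h⟩; exact h
  · intro h; exact ⟨rfl, h⟩

theorem card_ker_conjPOmega : Nat.card ↥(conjPOmega ⇑Q).ker = Fintype.card F - 1 := by
  have hne : Nonempty ι := by
    rw [← Fintype.card_pos_iff]; omega
  obtain ⟨i⟩ := hne
  classical
  rw [← Fintype.card_units, ← Nat.card_eq_fintype_card]
  symm
  refine Nat.card_congr (Equiv.ofBijective (fun μ : Fˣ => (⟨scalSimil Q μ,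
    (mem_ker_conjPOmega_iff' Q hQ hn _).2 ⟨μ, scalSimil_coe Q μ⟩⟩ : ↥(conjPOmega ⇑Q).ker)) ⟨?_, ?_⟩)
  · intro a b hab
    have h1 := congrArg (fun z : ↥(conjPOmega ⇑Q).ker =>
      (((z : ↥(Cfsg.Geo.quadSimilarityGroup ⇑Q)) : GL ι F) : Matrix ι ι F) i i) hab
    simp only [scalSimil_coe] at h1
    apply Units.ext
    simpa using h1
  · rintro ⟨g, hg⟩
    obtain ⟨μ, hμ⟩ := (mem_ker_conjPOmega_iff' Q hQ hn _).1 hg
    have hμ0 : μ ≠ 0 := by
      rintro rfl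
      have h1 : ((g : GL ι F) : Matrix ι ι F) * (((g : GL ι F)⁻¹ : GL ι F) : Matrix ι ι F) = 1 := by
        rw [← Units.val_mul, mul_inv_cancel, Units.val_one]
      rw [hμ, zero_smul, zero_mul] at h1
      have := congrFun (congrFun h1 i) i
      simp at this
    refine ⟨Units.mk0 μ hμ0, ?_⟩
    apply Subtype.ext
    apply Subtype.ext
    apply Units.ext
    rw [hμ]
    exact scalSimil_coe Q _

theorem exists_ne_zero : ∃ v, Q v ≠ 0 := exists_nonsingular hQ (by simp; omega)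

theorem card_ker_multHom (hex : ∃ v, Q v ≠ 0) :
    Nat.card ↥(multHom Q hex).ker = Nat.card ↥(Cfsg.isometryGroup F ⇑Q) := by
  symm
  refine Nat.card_congr (Equiv.ofBijective (fun s : ↥(Cfsg.isometryGroup F ⇑Q) =>
    (⟨ofO Q s, multF_eq_one_of_isometry hex _ s.2⟩ : ↥(multHom Q hex).ker)) ⟨?_, ?_⟩)
  · intro a b hab
    have h1 := congrArg (fun z : ↥(multHom Q hex).ker =>
      ((z : ↥(Cfsg.Geo.quadSimilarityGroup ⇑Q)) : GL ι F)) hab
    exact Subtype.ext h1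
  · rintro ⟨g, hg⟩
    rw [MonoidHom.mem_ker, multHom_apply] at hg
    refine ⟨⟨(g : GL ι F), mem_isometryGroup.2 fun v => ?_⟩, rfl⟩
    rw [multF_spec, hg]; simp

/-- `|PGO| (q - 1) = |O| |multipliers|` -/
theorem card_pgoAut_mul (hex : ∃ v, Q v ≠ 0) :
    Nat.card ↥(Cfsg.pgoAut F ⇑Q) * (Fintype.card F - 1)
      = Nat.card ↥(Cfsg.isometryGroup F ⇑Q) * Nat.card ↥(multHom Q hex).range := by
  rw [pgoAut_eq, ← card_ker_conjPOmega Q hQ hn, ← card_ker_multHom Q hQ hn hex,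
    ← Subgroup.index_ker, ← Subgroup.index_ker, mul_comm, Subgroup.card_mul_index,
    Subgroup.card_mul_index]

theorem Th_surjective (htop : Cfsg.gammaPOmega F ⇑Q = ⊤) : Function.Surjective (Th ⇑Q) := by
  rw [← MonoidHom.range_eq_top, ← gammaPOmega_eq, htop]

/-- the field automorphism attached to an automorphism of `PΩ` -/
theorem exists_theta (htop : Cfsg.gammaPOmega F ⇑Q = ⊤) (hlam : Function.Surjective (lam ⇑Q)) :
    ∃ θ : MulAut (Cfsg.POmega F ⇑Q) →* (F ≃+* F), Function.Surjective θ ∧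
      θ.ker = Cfsg.pgoAut F ⇑Q ∧ ∀ x, θ (Th ⇑Q x) = lam ⇑Q x := by
  have hs := Th_surjective Q hQ hn htop
  let θ := (Th ⇑Q).liftOfSurjective hs ⟨lam ⇑Q, ker_Th_le_ker_lam Q hQ hn⟩
  have hθ : ∀ x, θ (Th ⇑Q x) = lam ⇑Q x := fun x =>
    MonoidHom.liftOfRightInverse_comp_apply _ _ _ _ x
  refine ⟨θ, ?_, ?_, hθ⟩
  · intro σ
    obtain ⟨x, rfl⟩ := hlam σ
    exact ⟨_, hθ x⟩
  · rw [pgoAut_eq_map]
    ext β
    obtain ⟨x, rfl⟩ := hs β
    rw [MonoidHom.mem_ker, hθ]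
    constructor
    · intro h; exact ⟨x, h, rfl⟩
    · rintro ⟨y, hy, hxy⟩
      rw [← hθ, ← hxy, hθ]; exact hy

theorem card_aut (htop : Cfsg.gammaPOmega F ⇑Q = ⊤) (hlam : Function.Surjective (lam ⇑Q)) :
    Nat.card (MulAut (Cfsg.POmega F ⇑Q)) = Nat.card (F ≃+* F) * Nat.card ↥(Cfsg.pgoAut F ⇑Q) := by
  obtain ⟨θ, h1, h2, -⟩ := exists_theta Q hQ hn htop hlam
  rw [← h2, ← Subgroup.card_mul_index θ.ker, Subgroup.index_ker, mul_comm,
    MonoidHom.range_eq_top.2 h1, Subgroup.card_top]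

end

end Cfsg.Agent.Lib.Helper13.OOut
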