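import Mathlib

set_option autoImplicit false

namespace Cfsg.Agent.Lib.Helper13

open Module

section general

variable {F V : Type*} [Field F] [AddCommGroup V] [Module F V] [FiniteDimensional F V]

/-- Splitting off an anisotropic vector from a subspace, for a symmetric bilinear form. -/
theorem symm_split (B : LinearMap.BilinForm F V) (hS : B.IsSymm) (W : Submodule F V) (v : V)
    (hvW : v ∈ W) (hv : B v v ≠ 0) :
    (∀ w ∈ W, w - (B v w / B v v) • v ∈ W ⊓ LinearMap.ker (B v)) ∧
    finrank F (W ⊓ LinearMap.ker (B v) : Submodule F V) + 1 = finrank F W ∧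
    ((∀ w ∈ W, (∀ w' ∈ W, B w w' = 0) → w = 0) →
      ∀ w ∈ W ⊓ LinearMap.ker (B v), (∀ w' ∈ W ⊓ LinearMap.ker (B v), B w w' = 0) → w = 0) := by
  have hsym : ∀ a b, B a b = B b a := fun a b => hS.eq a b
  set W' : Submodule F V := W ⊓ LinearMap.ker (B v) with hW'
  have hW'mem : ∀ w, w ∈ W' ↔ w ∈ W ∧ B v w = 0 := by
    intro w
    simp [hW']
  have hdecomp : ∀ w ∈ W, w - (B v w / B v v) • v ∈ W' := by
    intro w hw
    rw [hW'mem]
    refine ⟨W.sub_mem hw (W.smul_mem _ hvW), ?_⟩
    simp [hv]
  have hv0 : v ≠ 0 := by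
    rintro rfl
    simp at hv
  refine ⟨hdecomp, ?_, ?_⟩
  · set H : Submodule F V := Submodule.span F {v} with hH
    have hvH : v ∈ H := Submodule.mem_span_singleton_self v
    have hsup : H ⊔ W' = W := by
      apply le_antisymm
      · apply sup_le
        · rw [hH, Submodule.span_singleton_le_iff_mem]
          exact hvW
        · intro w hw
          exact ((hW'mem w).mp hw).1
      · intro w hw
        have h2 : w = (B v w / B v v) • v + (w - (B v w / B v v) • v) := by abel
        rw [h2]
        exact Submodule.add_mem_sup (H.smul_mem _ hvH) (hdecomp w hw)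
    have hinf : H ⊓ W' = ⊥ := by
      rw [eq_bot_iff]
      intro w ⟨hwH, hwW'⟩
      rw [SetLike.mem_coe, hH, Submodule.mem_span_singleton] at hwH
      obtain ⟨a, rfl⟩ := hwH
      have h1 := ((hW'mem _).mp hwW').2
      rw [map_smul, smul_eq_mul] at h1
      have : a = 0 := by
        rcases mul_eq_zero.mp h1 with h | h
        · exact h
        · exact absurd h hv
      rw [this]
      simp
    have := Submodule.finrank_sup_add_finrank_inf_eq H W'
    rw [hsup, hinf, finrank_bot, hH, finrank_span_singleton hv0] at this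
    omega
  · intro hnd w hw hall
    apply hnd w ((hW'mem w).mp hw).1
    intro u hu
    have h1 := hall _ (hdecomp u hu)
    have h2 : B w v = 0 := by rw [hsym, ((hW'mem w).mp hw).2]
    simpa [h2] using h1

/-- A non-zero subspace on which a symmetric form is non-degenerate contains an anisotropic vector
(characteristic not two). -/
theorem symm_exists_anisotropic (h2 : (2 : F) ≠ 0) (B : LinearMap.BilinForm F V) (hS : B.IsSymm)
    (W : Submodule F V) (hW : 0 < finrank F W)
    (hnd : ∀ w ∈ W, (∀ w' ∈ W, B w w' = 0) → w = 0) : ∃ w ∈ W, B w w ≠ 0 := by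
  have hsym : ∀ a b, B a b = B b a := fun a b => hS.eq a b
  by_contra hcon
  push Not at hcon
  have hall : ∀ w ∈ W, w = 0 := by
    intro w hw
    apply hnd w hw
    intro w' hw'
    have h := hcon (w + w') (W.add_mem hw hw')
    simp only [map_add, LinearMap.add_apply, hcon w hw, hcon w' hw', hsym w' w] at h
    have : 2 * B w w' = 0 := by linear_combination h
    rcases mul_eq_zero.mp this with h | h
    · exact absurd h h2
    · exact h
  have : W = ⊥ := by
    rw [eq_bot_iff]
    intro w hw
    exact hall w hw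
  rw [this, finrank_bot] at hW
  omega

end general

section finite

variable {F V : Type*} [Field F] [Finite F] [AddCommGroup V] [Module F V] [FiniteDimensional F V]

/-- Over a finite field of odd characteristic, `a x² + b y² = c` is solvable for `a, b ≠ 0`. -/
theorem exists_sq_add_sq (h2 : (2 : F) ≠ 0) (a b c : F) (ha : a ≠ 0) (hb : b ≠ 0) :
    ∃ x y : F, a * x ^ 2 + b * y ^ 2 = c := by
  classical
  have := Fintype.ofFinite F
  have hchar : ringChar F ≠ 2 := by
    intro h
    apply h2
    have := ringChar.Nat.cast_ringChar (R := F)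
    rw [h] at this
    exact_mod_cast this
  have hodd : Fintype.card F % 2 = 1 := FiniteField.odd_card_of_char_ne_two hchar
  obtain ⟨x, y, hxy⟩ := FiniteField.exists_root_sum_quadratic
    (f := Polynomial.C a * Polynomial.X ^ 2 + Polynomial.C 0 * Polynomial.X + Polynomial.C (-c))
    (g := Polynomial.C b * Polynomial.X ^ 2 + Polynomial.C 0 * Polynomial.X + Polynomial.C 0)
    (Polynomial.degree_quadratic ha) (Polynomial.degree_quadratic hb) hodd
  refine ⟨x, y, ?_⟩
  simp at hxy
  linear_combination hxy

/-- Over a finite field of odd characteristic, the product of two non-squares is a square. -/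
theorem isSquare_mul_of_not_isSquare (h2 : (2 : F) ≠ 0) {a b : F} (ha : ¬ IsSquare a)
    (hb : ¬ IsSquare b) : IsSquare (a * b) := by
  classical
  have := Fintype.ofFinite F
  have h1 : quadraticChar F a = -1 := (quadraticChar_neg_one_iff_not_isSquare).mpr ha
  have h2' : quadraticChar F b = -1 := (quadraticChar_neg_one_iff_not_isSquare).mpr hb
  have ha0 : a ≠ 0 := by
    rintro rfl
    exact ha ⟨0, by simp⟩
  have hb0 : b ≠ 0 := by
    rintro rfl
    exact hb ⟨0, by simp⟩
  have h3 : quadraticChar F (a * b) = 1 := by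
    rw [map_mul, h1, h2']; norm_num
  exact (quadraticChar_one_iff_isSquare (mul_ne_zero ha0 hb0)).mp h3

/-- In a non-degenerate subspace of dimension at least two, every scalar is represented. -/
theorem symm_exists_norm (h2 : (2 : F) ≠ 0) (B : LinearMap.BilinForm F V) (hS : B.IsSymm)
    (W : Submodule F V) (hW : 2 ≤ finrank F W)
    (hnd : ∀ w ∈ W, (∀ w' ∈ W, B w w' = 0) → w = 0) (c : F) : ∃ w ∈ W, B w w = c := by
  have hsym : ∀ a b, B a b = B b a := fun a b => hS.eq a b
  obtain ⟨w1, hw1, h1⟩ := symm_exists_anisotropic h2 B hS W (by omega) hnd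
  obtain ⟨_, hrank, hnd'⟩ := symm_split B hS W w1 hw1 h1
  obtain ⟨w2, hw2, h2'⟩ := symm_exists_anisotropic h2 B hS _ (by omega) (hnd' hnd)
  obtain ⟨x, y, hxy⟩ := exists_sq_add_sq h2 _ _ c h1 h2'
  have hw2' : w2 ∈ W ∧ B w1 w2 = 0 := by simpa using hw2
  refine ⟨x • w1 + y • w2, W.add_mem (W.smul_mem _ hw1) (W.smul_mem _ hw2'.1), ?_⟩
  simp only [map_add, LinearMap.add_apply, map_smul, LinearMap.smul_apply, smul_eq_mul,
    hsym w2 w1, hw2'.2]
  linear_combination hxy

end finite

end Cfsg.Agent.Lib.Helper13
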